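import Mathlib.AlgebraicGeometry.Sites.Fpqc
import Mathlib.AlgebraicGeometry.Morphisms.FlatDescent
import Mathlib.AlgebraicGeometry.Limits

/-!
# Small fpqc covering families: topology and descent of properties
-/

universe u

open CategoryTheory CategoryTheory.Limits AlgebraicGeometry

set_option autoImplicit false
set_option linter.style.haveILetI false
set_option backward.isDefEq.respectTransparency false
set_option backward.isDefEq.respectTransparency.types false

namespace Groth.Agent.GrpQGraph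

/-- A covering sieve of the fpqc topology contains a small fpqc covering family. -/
theorem exists_small_cover {T : Scheme.{u}} (W : Sieve T) (h : W ∈ Scheme.fpqcPrecoverage.toGrothendieck T) :
    ∃ (ι : Type u) (X : ι → Scheme.{u}) (g : ∀ i, X i ⟶ T),
      Presieve.ofArrows X g ∈ Scheme.fpqcPrecoverage T ∧ ∀ i, W (g i) := by
  obtain ⟨R, hR, hle⟩ := Precoverage.mem_toGrothendieck_iff_of_isStableUnderComposition.1 h
  obtain ⟨J, U, u, rfl⟩ := R.exists_eq_ofArrows
  let 𝒰 : PreZeroHypercover.{u + 1} T := ⟨J, U, u⟩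
  haveI hqc : QuasiCompactCover 𝒰 := (Scheme.presieve₀_mem_qcPrecoverage_iff (E := 𝒰)).1 hR.1
  have hflat : ∀ i, Flat (u i) := ((Scheme.ofArrows_mem_precoverage_iff _).1 hR.2).2
  let 𝒱 := QuasiCompactCover.ulift 𝒰
  refine ⟨𝒱.I₀, 𝒱.X, 𝒱.f, ⟨(Scheme.presieve₀_mem_qcPrecoverage_iff (E := 𝒱)).2 inferInstance, ?_⟩,
    fun i => hle _ _ (Presieve.ofArrows.mk (Y := U) (f := u) _)⟩
  rw [Scheme.ofArrows_mem_precoverage_iff]
  refine ⟨fun x => ?_, fun i => hflat _⟩
  obtain ⟨_, ⟨V, hV, rfl⟩, hxV, -⟩ :=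
    T.isBasis_affineOpens.exists_subset_of_mem_open (Set.mem_univ x) isOpen_univ
  obtain ⟨n, f, O, -, hO⟩ := QuasiCompactCover.exists_isAffineOpen_of_isCompact 𝒱
    (IsAffineOpen.isCompact hV)
  have : x ∈ (⋃ i, 𝒱.f (f i) '' O i) := hO.symm ▸ hxV
  obtain ⟨i, y, -, hy⟩ := Set.mem_iUnion.1 this
  exact ⟨f i, y, hy⟩

variable {T : Scheme.{u}} {ι : Type u} {X : ι → Scheme.{u}} {g : ∀ i, X i ⟶ T}

/-- Over an affine open of the base an fpqc family is refined by one faithfully flat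
quasi-compact morphism from a finite disjoint union of affine opens of its members. -/
theorem exists_affine_refinement (hg : Presieve.ofArrows X g ∈ Scheme.fpqcPrecoverage T)
    (V : T.Opens) (hV : IsAffineOpen V) :
    ∃ (κ : Type u) (_ : Finite κ) (a : κ → ι) (W : κ → Scheme.{u}) (c : ∀ k, W k ⟶ X (a k))
      (d : ∀ k, W k ⟶ V), (∀ k, c k ≫ g (a k) = d k ≫ V.ι) ∧ Surjective (Sigma.desc d) ∧
      Flat (Sigma.desc d) ∧ QuasiCompact (Sigma.desc d) := by
  let 𝒰 : PreZeroHypercover.{u} T := ⟨ι, X, g⟩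
  haveI hqc : QuasiCompactCover 𝒰 := (Scheme.presieve₀_mem_qcPrecoverage_iff (E := 𝒰)).1 hg.1
  have hflat : ∀ i, Flat (g i) := ((Scheme.ofArrows_mem_precoverage_iff _).1 hg.2).2
  obtain ⟨n, a, O, hOa, hOeq⟩ := QuasiCompactCover.exists_isAffineOpen_of_isCompact 𝒰 hV.isCompact
  change Fin n → ι at a
  let κ := ULift.{u} (Fin n)
  have hle : ∀ k : κ, O k.down ≤ g (a k.down) ⁻¹ᵁ V := fun k z hz =>
    hOeq.le (Set.mem_iUnion.2 ⟨k.down, z, hz, rfl⟩)
  let d : ∀ k : κ, (O k.down).toScheme ⟶ V := fun k => (g (a k.down)).resLE V (O k.down) (hle k)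
  have hd : ∀ k, (O k.down).ι ≫ g (a k.down) = d k ≫ V.ι :=
    fun k => (Scheme.Hom.resLE_comp_ι _ _).symm
  haveI : ∀ k : κ, IsAffine (O k.down).toScheme := fun k => hOa k.down
  haveI : IsAffine (V : Scheme.{u}) := hV
  refine ⟨κ, inferInstance, fun k => a k.down, fun k => (O k.down).toScheme, fun k => (O k.down).ι, d,
    hd, ⟨fun x => ?_⟩, IsZariskiLocalAtSource.sigmaDesc fun k => IsZariskiLocalAtSource.resLE _ (hflat _),
    inferInstance⟩
  obtain ⟨k, hk⟩ := Set.mem_iUnion.1 (hOeq.ge x.2)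
  obtain ⟨y, hy, e⟩ := hk
  refine ⟨Sigma.ι (fun k : κ => (O k.down).toScheme) ⟨k⟩ ⟨y, hy⟩, V.ι.isOpenEmbedding.injective ?_⟩
  rw [← Scheme.Hom.comp_apply, ← Scheme.Hom.comp_apply, Sigma.ι_desc_assoc, ← hd ⟨k⟩]
  exact e

/-- An fpqc covering family is topologically a quotient. -/
theorem isOpen_of_fpqc_family (hg : Presieve.ofArrows X g ∈ Scheme.fpqcPrecoverage T) (A : Set T)
    (h : ∀ i, IsOpen (g i ⁻¹' A)) : IsOpen A := by
  refine isOpen_iff_forall_mem_open.2 fun x hx => ?_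
  obtain ⟨_, ⟨(V : T.Opens), hV, rfl⟩, hxV, -⟩ :=
    T.isBasis_affineOpens.exists_subset_of_mem_open (Set.mem_univ x) isOpen_univ
  obtain ⟨κ, _, a, W, c, d, hcd, h1, h2, h3⟩ := exists_affine_refinement hg V hV
  refine ⟨A ∩ V, Set.inter_subset_left, ?_, hx, hxV⟩
  have hopen : IsOpen ((Scheme.Opens.ι V) ⁻¹' A) := by
    rw [← (Flat.isQuotientMap_of_surjective (Sigma.desc d)).isOpen_preimage]
    refine isOpen_iff_forall_mem_open.2 fun z hz => ?_
    obtain ⟨k, w, rfl⟩ := (sigmaOpenCover W).exists_eq z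
    refine ⟨Sigma.ι W k '' ((c k ≫ g (a k)) ⁻¹' A), ?_,
      (Sigma.ι W k).isOpenEmbedding.isOpenMap _ ?_, w, ?_, rfl⟩
    · rintro _ ⟨w', hw', rfl⟩
      simp only [Set.mem_preimage] at hw' ⊢
      rw [← Scheme.Hom.comp_apply, ← Scheme.Hom.comp_apply, Sigma.ι_desc_assoc, ← hcd]
      exact hw'
    · exact (h (a k)).preimage (c k).continuous
    · simp only [Set.mem_preimage] at hz ⊢
      rw [← Scheme.Hom.comp_apply, ← Scheme.Hom.comp_apply] at hz
      rw [hcd]
      erw [Sigma.ι_desc_assoc] at hz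
      exact hz
  have := (Scheme.Opens.ι V).isOpenEmbedding.isOpenMap _ hopen
  rwa [Set.image_preimage_eq_inter_range, Scheme.Opens.range_ι] at this

theorem snd_snd_iff (P : MorphismProperty Scheme.{u}) [P.RespectsIso] {Z A B C : Scheme.{u}} (f : Z ⟶ C)
    (p : B ⟶ C) (q : A ⟶ B) (r : A ⟶ C) (e : q ≫ p = r) :
    P (pullback.snd (pullback.snd f p) q) ↔ P (pullback.snd f r) := by
  subst e
  rw [← MorphismProperty.cancel_left_of_respectsIso P (pullbackLeftPullbackSndIso f p q).hom,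
    pullbackLeftPullbackSndIso_hom_snd]

/-- Descent of a property along an fpqc covering family. -/
theorem property_of_fpqc_family (P : MorphismProperty Scheme.{u}) [P.IsStableUnderBaseChange]
    [IsZariskiLocalAtTarget P] [P.DescendsAlong (@Surjective ⊓ @Flat ⊓ @QuasiCompact)]
    (hg : Presieve.ofArrows X g ∈ Scheme.fpqcPrecoverage T) {Z : Scheme.{u}} (f : Z ⟶ T)
    (h : ∀ i, P (pullback.snd f (g i))) : P f := by
  refine IsZariskiLocalAtTarget.of_openCover T.affineCover fun j => ?_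
  have hV := isAffineOpen_opensRange (T.affineCover.f j)
  show P (pullback.snd f (T.affineCover.f j))
  obtain ⟨κ, _, a, W, c, d, hcd, h1, h2, h3⟩ := exists_affine_refinement hg _ hV
  have hV' : P (pullback.snd f (T.affineCover.f j).opensRange.ι) := by
    refine MorphismProperty.of_pullback_snd_of_descendsAlong (Q := @Surjective ⊓ @Flat ⊓ @QuasiCompact)
      (g := Sigma.desc d) ⟨⟨h1, h2⟩, h3⟩ ?_
    refine IsZariskiLocalAtTarget.of_openCover (sigmaOpenCover W) fun k => ?_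
    refine (snd_snd_iff P _ _ ((sigmaOpenCover W).f k) (d k) (Sigma.ι_desc _ _)).2 ?_
    refine (snd_snd_iff P f _ (d k) _ rfl).2 ?_
    refine (snd_snd_iff P f (g (a k)) (c k) _ (hcd k)).1 ?_
    exact MorphismProperty.pullback_snd _ _ (h (a k))
  have he : (Scheme.Hom.isoOpensRange (T.affineCover.f j)).hom ≫ (T.affineCover.f j).opensRange.ι =
      T.affineCover.f j := Scheme.Hom.isoOpensRange_hom_ι _
  rw [← snd_snd_iff P f _ _ _ he]
  exact MorphismProperty.pullback_snd _ _ hV'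

end Groth.Agent.GrpQGraph
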