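import Groth.Agent.GrpQGraph.Pts
import Groth.Agent.DescLib.IdealDescent

/-!
# The graph of a section of a quotient sheaf by a closed or open relation
-/

universe u

open CategoryTheory CategoryTheory.Limits AlgebraicGeometry Opposite MonoidalCategory CartesianMonoidalCategory

set_option autoImplicit false
set_option linter.style.haveILetI false
set_option backward.isDefEq.respectTransparency false
set_option backward.isDefEq.respectTransparency.types false

namespace Groth.Agent.GrpQGraph

variable {S : Scheme.{u}}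

local notation "K" => (Scheme.fpqcPrecoverage : Precoverage Scheme)

theorem ker_le_iff {A B : Scheme.{u}} (I : B.IdealSheafData) (x : A ⟶ B) :
    I.comap x = ⊥ ↔ I ≤ x.ker := by
  rw [← le_bot_iff, ← Scheme.IdealSheafData.le_map_iff_comap_le, Scheme.IdealSheafData.map_bot]

theorem exists_fac_iff_comap_eq_bot {W Q : Over S} (w : W ⟶ Q) [IsClosedImmersion w.left] {Q' : Over S}
    (z : Q' ⟶ Q) : (∃ a, a ≫ w = z) ↔ w.left.ker.comap z.left = ⊥ := by
  rw [ker_le_iff]
  constructor
  · rintro ⟨a, rfl⟩
    exact Scheme.Hom.le_ker_comp a.left w.left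
  · intro h
    have hfac : IsClosedImmersion.lift w.left z.left h ≫ w.left = z.left := IsClosedImmersion.lift_fac _ _ _
    exact ⟨Over.homMk (IsClosedImmersion.lift w.left z.left h) (by rw [← Over.w w, reassoc_of% hfac, Over.w]),
      Over.OverMorphism.ext hfac⟩

theorem exists_fac_iff_range_subset {W Q : Over S} (w : W ⟶ Q) [IsOpenImmersion w.left] {Q' : Over S}
    (z : Q' ⟶ Q) : (∃ a, a ≫ w = z) ↔ Set.range z.left ⊆ Set.range w.left := by
  constructor
  · rintro ⟨a, rfl⟩
    rw [Over.comp_left, Scheme.Hom.comp_base, TopCat.coe_comp]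
    exact Set.range_comp_subset_range _ _
  · intro h
    exact ⟨Over.homMk (IsOpenImmersion.lift w.left z.left h) (by
        rw [← Over.w w, ← Category.assoc, IsOpenImmersion.lift_fac, Over.w]),
      Over.OverMorphism.ext (IsOpenImmersion.lift_fac _ _ _)⟩

variable {R U T : Over S} {s t : R ⟶ U} [IsEquivalenceRelation s t]
  {σ : QuotSh.rep K T ⟶ QuotSh.quot K s t}

/-- The piece of `U × T` over a member of a covering family of `T`. -/
noncomputable abbrev piece {ι : Type u} {Ti : ι → Over S} (g : ∀ i, Ti i ⟶ T) (k : ι) : Over S :=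
  pullback (snd U T) (g k)

/-- The projection of the piece to `U × T`. -/
noncomputable abbrev pieceHom {ι : Type u} {Ti : ι → Over S} (g : ∀ i, Ti i ⟶ T) (k : ι) :
    piece (U := U) g k ⟶ U ⊗ T :=
  pullback.fst _ _

variable (σ) in
/-- Everything needed from a local lifting of `σ`. -/
theorem exists_pieces (P : MorphismProperty Scheme.{u}) [P.IsStableUnderBaseChange] (hP : P (lift t s).left) :
    ∃ (ι : Type u) (Q W : ι → Over S) (p : ∀ k, Q k ⟶ U ⊗ T) (w : ∀ k, W k ⟶ Q k),
      Presieve.ofArrows (fun k => (Q k).left) (fun k => (p k).left) ∈ Scheme.fpqcPrecoverage (U ⊗ T).left ∧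
      (∀ k, P (w k).left) ∧
      ∀ k (Q' : Over S) (z : Q' ⟶ Q k),
        IsPt s t σ ((z ≫ p k) ≫ fst U T) ((z ≫ p k) ≫ snd U T) ↔ ∃ a, a ≫ w k = z := by
  obtain ⟨ι, Ti, g, ui, hg, hu⟩ := exists_lifts s t σ
  let a : ∀ k, piece (U := U) g k ⟶ U ⊗ U := fun k =>
    lift (pieceHom g k ≫ fst U T) (pullback.snd _ _ ≫ ui k)
  refine ⟨ι, piece g, fun k => pullback (lift t s) (a k), pieceHom g, fun k => pullback.snd _ _, ?_,
    fun k => P.of_isPullback (isPullback_left (IsPullback.of_hasPullback _ _)) hP, fun k Q' z => ?_⟩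
  · exact Precoverage.mem_coverings_of_isPullback (J := Scheme.fpqcPrecoverage) (fun k => (g k).left) hg
      (snd U T).left _ (fun k => (pullback.snd (snd U T) (g k)).left)
      fun k => isPullback_left (IsPullback.of_hasPullback _ _)
  · rw [Category.assoc, Category.assoc,
      show pieceHom g k ≫ snd U T = pullback.snd _ _ ≫ g k from pullback.condition]
    exact isPt_iff_of_lift (hu k) _ _ z

omit [IsEquivalenceRelation s t] in
theorem isPt_iff_pieces {ι : Type u} {Q : ι → Over S} {p : ∀ k, Q k ⟶ U ⊗ T}
    (hp : Presieve.ofArrows (fun k => (Q k).left) (fun k => (p k).left) ∈ Scheme.fpqcPrecoverage (U ⊗ T).left)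
    {T' : Over S} (z : T' ⟶ U ⊗ T) :
    IsPt s t σ (z ≫ fst U T) (z ≫ snd U T) ↔
      ∀ k, IsPt s t σ ((pullback.snd z (p k) ≫ p k) ≫ fst U T) ((pullback.snd z (p k) ≫ p k) ≫ snd U T) := by
  constructor
  · intro h k
    rw [← pullback.condition, Category.assoc, Category.assoc]
    exact h.comp _
  · intro h
    have hc := Precoverage.mem_coverings_of_isPullback (J := Scheme.fpqcPrecoverage) (fun k => (p k).left) hp
      z.left (fun k => (pullback.fst z (p k)).left) (fun k => (pullback.snd z (p k)).left)
      fun k => isPullback_left (IsPullback.of_hasPullback _ _)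
    refine isPt_of_family (Ti := fun k => pullback z (p k)) (c := fun k => pullback.fst z (p k)) hc fun k => ?_
    have := h k
    rwa [← pullback.condition, Category.assoc, Category.assoc] at this

variable (σ) in
/-- For a closed relation the graph of a section is a closed subscheme of `U × T`. -/
theorem exists_reps_closed (hc : IsClosedImmersion (lift t s).left) :
    ∃ (Z : Over S) (i : Z ⟶ U ⊗ T), IsClosedImmersion i.left ∧ Reps s t σ i := by
  obtain ⟨ι, Q, W, p, w, hp, hw, hpt⟩ := exists_pieces σ @IsClosedImmersion hc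
  haveI := hw
  have hpt' : ∀ k (Q' : Over S) (z : Q' ⟶ Q k),
      IsPt s t σ ((z ≫ p k) ≫ fst U T) ((z ≫ p k) ≫ snd U T) ↔ (w k).left.ker.comap z.left = ⊥ := fun k Q' z =>
    (hpt k Q' z).trans (exists_fac_iff_comap_eq_bot _ _)
  have hcompat : ∀ k l, (w k).left.ker.comap (pullback.fst (p k).left (p l).left) =
      (w l).left.ker.comap (pullback.snd (p k).left (p l).left) := by
    intro k l
    let A : Over S := Over.mk (pullback.fst (p k).left (p l).left ≫ (Q k).hom)
    let a : A ⟶ Q k := Over.homMk (pullback.fst (p k).left (p l).left) rfl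
    let b : A ⟶ Q l := Over.homMk (pullback.snd (p k).left (p l).left) (by
      show _ = _ ≫ (Q k).hom
      rw [← Over.w (p k), ← Over.w (p l), pullback.condition_assoc])
    have hab : a ≫ p k = b ≫ p l := Over.OverMorphism.ext pullback.condition
    suffices ∀ (A' : Over S) (z : A' ⟶ A), ((w k).left.ker.comap a.left).comap z.left = ⊥ ↔
        ((w l).left.ker.comap b.left).comap z.left = ⊥ by
      let I := (w k).left.ker.comap a.left
      let J := (w l).left.ker.comap b.left
      have hle : ∀ I' J' : A.left.IdealSheafData, (∀ (A' : Over S) (z : A' ⟶ A), J'.comap z.left = ⊥ →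
          I'.comap z.left = ⊥) → I' ≤ J' := by
        intro I' J' h
        have h1 := h (Over.mk (J'.subschemeι ≫ A.hom)) (Over.homMk J'.subschemeι rfl)
          (DescLib.comap_subschemeι J')
        rw [ker_le_iff] at h1
        simpa using h1
      exact le_antisymm (hle I J fun A' z => (this A' z).2) (hle J I fun A' z => (this A' z).1)
    intro A' z
    rw [← Scheme.IdealSheafData.comap_comp, ← Scheme.IdealSheafData.comap_comp, ← Over.comp_left,
      ← Over.comp_left, ← hpt', ← hpt']
    simp only [Category.assoc, reassoc_of% hab]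
  obtain ⟨J, hJ, -⟩ := DescLib.existsUnique_descend_fpqc (fun k => (p k).left) hp _ hcompat
  let i : Over.mk (J.subschemeι ≫ (U ⊗ T).hom) ⟶ U ⊗ T := Over.homMk J.subschemeι rfl
  haveI : IsClosedImmersion i.left := inferInstanceAs (IsClosedImmersion J.subschemeι)
  refine ⟨_, i, inferInstance, fun T' z => ?_⟩
  rw [exists_fac_iff_comap_eq_bot, show i.left.ker = J from Scheme.IdealSheafData.ker_subschemeι J,
    isPt_iff_pieces hp]
  have hc := Precoverage.mem_coverings_of_isPullback (J := Scheme.fpqcPrecoverage) (fun k => (p k).left) hp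
    z.left (fun k => (pullback.fst z (p k)).left) (fun k => (pullback.snd z (p k)).left)
    fun k => isPullback_left (IsPullback.of_hasPullback _ _)
  have e : ∀ k, (J.comap z.left).comap (pullback.fst z (p k)).left =
      (w k).left.ker.comap (pullback.snd z (p k)).left := fun k => by
    rw [← hJ k, ← Scheme.IdealSheafData.comap_comp, ← Scheme.IdealSheafData.comap_comp, ← Over.comp_left,
      ← Over.comp_left, pullback.condition]
  constructor
  · intro h
    haveI : ∀ k, Flat (pullback.fst z (p k)).left := ((Scheme.ofArrows_mem_precoverage_iff _).1 hc.2).2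
    refine DescLib.eq_of_flat_family (fun k => (pullback.fst z (p k)).left) (fun x => ?_) fun k => ?_
    · obtain ⟨k, y, hy⟩ := ((Scheme.ofArrows_mem_precoverage_iff _).1 hc.2).1 x
      exact ⟨k, y, hy⟩
    · rw [Scheme.IdealSheafData.comap_bot, e, ← hpt']
      exact h k
  · intro h k
    rw [hpt', ← e, h, Scheme.IdealSheafData.comap_bot]

variable (σ) in
/-- For an open relation the graph of a section is an open subscheme of `U × T`. -/
theorem exists_reps_open (hc : IsOpenImmersion (lift t s).left) :
    ∃ (Z : Over S) (i : Z ⟶ U ⊗ T), IsOpenImmersion i.left ∧ Reps s t σ i := by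
  obtain ⟨ι, Q, W, p, w, hp, hw, hpt⟩ := exists_pieces σ @IsOpenImmersion hc
  haveI := hw
  have hpt' : ∀ k (Q' : Over S) (z : Q' ⟶ Q k),
      IsPt s t σ ((z ≫ p k) ≫ fst U T) ((z ≫ p k) ≫ snd U T) ↔ Set.range z.left ⊆ Set.range (w k).left :=
    fun k Q' z => (hpt k Q' z).trans (exists_fac_iff_range_subset _ _)
  let A : Set (U ⊗ T).left := ⋃ k, (p k).left '' Set.range (w k).left
  have hpre : ∀ l, (p l).left ⁻¹' A = Set.range (w l).left := by
    intro l
    refine subset_antisymm (fun y hy => ?_) fun y hy => Set.mem_iUnion.2 ⟨l, y, hy, rfl⟩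
    obtain ⟨k, y', hy', e⟩ := Set.mem_iUnion.1 hy
    obtain ⟨q, hq1, hq2⟩ := Scheme.Pullback.exists_preimage_pullback (f := (p k).left) (g := (p l).left) y' y e
    let F := Spec ((pullback (p k).left (p l).left).residueField q)
    let x := (pullback (p k).left (p l).left).fromSpecResidueField q
    let A' : Over S := Over.mk (x ≫ pullback.fst (p k).left (p l).left ≫ (Q k).hom)
    let a : A' ⟶ Q k := Over.homMk (x ≫ pullback.fst (p k).left (p l).left) (Category.assoc _ _ _)
    let b : A' ⟶ Q l := Over.homMk (x ≫ pullback.snd (p k).left (p l).left) (by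
      show _ = x ≫ _ ≫ (Q k).hom
      rw [← Over.w (p k), ← Over.w (p l), Category.assoc, pullback.condition_assoc])
    have hab : a ≫ p k = b ≫ p l := Over.OverMorphism.ext (by simp [a, b, pullback.condition])
    have h1 : IsPt s t σ ((a ≫ p k) ≫ fst U T) ((a ≫ p k) ≫ snd U T) := (hpt' k _ a).2 <| by
      rintro _ ⟨f, rfl⟩
      show (x ≫ pullback.fst (p k).left (p l).left) f ∈ _
      rw [Scheme.Hom.comp_apply, Scheme.fromSpecResidueField_apply, hq1]
      exact hy'
    rw [hab, hpt' l _ b] at h1
    have := h1 ⟨IsLocalRing.closedPoint _, rfl⟩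
    change (x ≫ pullback.snd (p k).left (p l).left) _ ∈ _ at this
    rwa [Scheme.Hom.comp_apply, Scheme.fromSpecResidueField_apply, hq2] at this
  let O : (U ⊗ T).left.Opens := ⟨A, isOpen_of_fpqc_family hp A fun l => by
    rw [hpre]; exact (w l).left.isOpenEmbedding.isOpen_range⟩
  let i : Over.mk (O.ι ≫ (U ⊗ T).hom) ⟶ U ⊗ T := Over.homMk O.ι rfl
  haveI : IsOpenImmersion i.left := inferInstanceAs (IsOpenImmersion O.ι)
  refine ⟨_, i, inferInstance, fun T' z => ?_⟩
  rw [exists_fac_iff_range_subset, show Set.range i.left = A from Scheme.Opens.range_ι O, isPt_iff_pieces hp]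
  have hc := Precoverage.mem_coverings_of_isPullback (J := Scheme.fpqcPrecoverage) (fun k => (p k).left) hp
    z.left (fun k => (pullback.fst z (p k)).left) (fun k => (pullback.snd z (p k)).left)
    fun k => isPullback_left (IsPullback.of_hasPullback _ _)
  have e : ∀ k q, z.left ((pullback.fst z (p k)).left q) = (p k).left ((pullback.snd z (p k)).left q) :=
    fun k q => by rw [← Scheme.Hom.comp_apply, ← Scheme.Hom.comp_apply, ← Over.comp_left, ← Over.comp_left,
      pullback.condition]
  constructor
  · rintro h _ ⟨x, rfl⟩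
    obtain ⟨k, q, hq⟩ := ((Scheme.ofArrows_mem_precoverage_iff _).1 hc.2).1 x
    rw [← hq, e, ← Set.mem_preimage, hpre]
    exact (hpt' k _ _).1 (h k) ⟨q, rfl⟩
  · intro h k
    rw [hpt']
    rintro _ ⟨q, rfl⟩
    rw [← hpre, Set.mem_preimage, ← e]
    exact h ⟨_, rfl⟩

end Groth.Agent.GrpQGraph
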