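import Groth.Agent.GrpQGraph.Cover
import Groth.Agent.AlgSpPts.Quot
import Groth.Agent.AlgStLib.QuotShEff

/-!
# The subfunctor of `U × T` cut out by a section of a quotient sheaf
-/

universe u

open CategoryTheory CategoryTheory.Limits AlgebraicGeometry Opposite MonoidalCategory CartesianMonoidalCategory

set_option autoImplicit false
set_option linter.style.haveILetI false
set_option backward.isDefEq.respectTransparency false
set_option backward.isDefEq.respectTransparency.types false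

namespace Groth.Agent.GrpQGraph

variable {S : Scheme.{u}}

local notation "K" => (Scheme.fpqcPrecoverage : Precoverage Scheme)

theorem repMap_comp (K' : Precoverage Scheme.{u}) {A B C : Over S} (g : A ⟶ B) (g' : B ⟶ C) :
    QuotSh.repMap K' (g ≫ g') = QuotSh.repMap K' g ≫ QuotSh.repMap K' g' := by
  simp [QuotSh.repMap]

theorem repMap_id (K' : Precoverage Scheme.{u}) (A : Over S) :
    QuotSh.repMap K' (𝟙 A) = 𝟙 _ := by
  simp [QuotSh.repMap]

theorem isPullback_left {A B C D : Over S} {a : A ⟶ B} {b : A ⟶ C} {c : B ⟶ D} {d : C ⟶ D}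
    (h : IsPullback a b c d) : IsPullback a.left b.left c.left d.left :=
  h.map (Over.forget S)

/-- The sections of `h_V` over `T` and the maps `h_T ⟶ F`. -/
noncomputable def secEquiv (F : QuotSh.Sh K S) (V : Over S) :
    (QuotSh.rep K V ⟶ F) ≃ F.obj.obj (op V) :=
  ((sheafificationAdjunction (QuotSh.J K S) (Type (u + 1))).homEquiv _ F).trans uliftYonedaEquiv

theorem secEquiv_comp {F : QuotSh.Sh K S} {V W : Over S} (g : V ⟶ W) (φ : QuotSh.rep K W ⟶ F) :
    secEquiv F V (QuotSh.repMap K g ≫ φ) = F.obj.map g.op (secEquiv F W φ) := by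
  show uliftYonedaEquiv ((sheafificationAdjunction _ _).homEquiv _ F (_ ≫ φ)) = _
  exact (congrArg uliftYonedaEquiv
    ((sheafificationAdjunction (QuotSh.J K S) (Type (u + 1))).homEquiv_naturality_left _ φ)).trans
    (uliftYonedaEquiv_naturality (X := op W) (Y := op V) _ g.op).symm

theorem secEquiv_naturality {F G : QuotSh.Sh K S} {V : Over S} (φ : QuotSh.rep K V ⟶ F) (f : F ⟶ G) :
    secEquiv G V (φ ≫ f) = f.hom.app (op V) (secEquiv F V φ) := by
  show uliftYonedaEquiv ((sheafificationAdjunction _ _).homEquiv _ G (φ ≫ f)) = _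
  exact (congrArg uliftYonedaEquiv
    ((sheafificationAdjunction (QuotSh.J K S) (Type (u + 1))).homEquiv_naturality_right φ f)).trans
    (uliftYonedaEquiv_comp _ _)

theorem hom_ext_of_family {F : QuotSh.Sh K S} {T : Over S} {ι : Type u} {Ti : ι → Over S} {g : ∀ i, Ti i ⟶ T}
    (hg : Presieve.ofArrows (fun i => (Ti i).left) (fun i => (g i).left) ∈ Scheme.fpqcPrecoverage T.left)
    (a b : QuotSh.rep K T ⟶ F) (h : ∀ i, QuotSh.repMap K (g i) ≫ a = QuotSh.repMap K (g i) ≫ b) : a = b := by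
  apply (secEquiv F T).injective
  have hmem : Sieve.generate (Presieve.ofArrows Ti g) ∈ QuotSh.J K S T := by
    rw [GrothendieckTopology.mem_over_iff]
    refine GrothendieckTopology.superset_covering _ ?_ (Precoverage.generate_mem_toGrothendieck hg)
    rintro Z f ⟨_, l, _, ⟨i⟩, rfl⟩
    rw [Sieve.overEquiv_iff]
    exact ⟨Ti i, Over.homMk l (by simp [Over.w]), g i, .mk i, Over.OverMorphism.ext rfl⟩
  refine (((isSheaf_iff_isSheaf_of_type _ _).1 F.property).isSeparated _ hmem).ext ?_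
  rintro T' _ ⟨W, l, _, ⟨i⟩, rfl⟩
  rw [← secEquiv_comp, ← secEquiv_comp, repMap_comp, Category.assoc, Category.assoc, h i]

variable {R U T : Over S} (s t : R ⟶ U) (σ : QuotSh.rep K T ⟶ QuotSh.quot K s t)

/-- `(u, g)` is a point of the graph of `σ`. -/
def IsPt {T' : Over S} (u : T' ⟶ U) (g : T' ⟶ T) : Prop :=
  QuotSh.repMap K u ≫ QuotSh.quotπ K s t = QuotSh.repMap K g ≫ σ

/-- A morphism to `U × T` representing the graph of `σ`. -/
def Reps {Z : Over S} (i : Z ⟶ U ⊗ T) : Prop :=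
  ∀ (T' : Over S) (z : T' ⟶ U ⊗ T),
    IsPt s t σ (z ≫ fst U T) (z ≫ snd U T) ↔ ∃ w, w ≫ i = z

variable {s t σ}

theorem IsPt.comp {T' T'' : Over S} {u : T' ⟶ U} {g : T' ⟶ T} (h : IsPt s t σ u g) (c : T'' ⟶ T') :
    IsPt s t σ (c ≫ u) (c ≫ g) := by
  unfold IsPt at h ⊢
  rw [repMap_comp, repMap_comp, Category.assoc, Category.assoc, h]

theorem isPt_of_family {T' : Over S} {u : T' ⟶ U} {g : T' ⟶ T} {ι : Type u} {Ti : ι → Over S}
    {c : ∀ i, Ti i ⟶ T'}
    (hc : Presieve.ofArrows (fun i => (Ti i).left) (fun i => (c i).left) ∈ Scheme.fpqcPrecoverage T'.left)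
    (h : ∀ i, IsPt s t σ (c i ≫ u) (c i ≫ g)) : IsPt s t σ u g := by
  refine hom_ext_of_family hc _ _ fun i => ?_
  have := h i
  unfold IsPt at this
  rwa [repMap_comp, repMap_comp, Category.assoc, Category.assoc] at this

/-- The sheaf quotient is effective: two points with the same image are related. -/
theorem quotπ_eq_iff [IsEquivalenceRelation s t] {T' : Over S} (a b : T' ⟶ U) :
    QuotSh.repMap K a ≫ QuotSh.quotπ K s t = QuotSh.repMap K b ≫ QuotSh.quotπ K s t ↔
      ∃ r : T' ⟶ R, r ≫ t = a ∧ r ≫ s = b := by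
  constructor
  · intro h
    have sq := AlgSpPts.isPullback_quotπ K (AlgStLib.QuotShEff.isEqvRel_of_isEquivalenceRelation (s := s) (t := t))
    obtain ⟨l, hl₁, hl₂⟩ := PullbackCone.IsLimit.lift' sq.isLimit _ _ h
    let Φ := (QuotSh.J K S).uliftYoneda.{u + 1}
    let r : T' ⟶ R := Φ.preimage
      ((QuotSh.repIsoUliftYoneda K T').inv ≫ l ≫ (QuotSh.repIsoUliftYoneda K R).hom)
    have hr : Φ.map r = (QuotSh.repIsoUliftYoneda K T').inv ≫ l ≫ (QuotSh.repIsoUliftYoneda K R).hom :=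
      Φ.map_preimage _
    have key : ∀ (q : R ⟶ U) (c : T' ⟶ U), l ≫ QuotSh.repMap K q = QuotSh.repMap K c → r ≫ q = c := by
      intro q c e
      apply Φ.map_injective
      rw [← cancel_epi (QuotSh.repIsoUliftYoneda K T').hom, Functor.map_comp, hr, Category.assoc,
        Category.assoc, Iso.hom_inv_id_assoc, AlgStLib.QuotShEff.repMap_iso K q, reassoc_of% e,
        AlgStLib.QuotShEff.repMap_iso K c]
    exact ⟨r, key t a hl₁, key s b hl₂⟩
  · rintro ⟨r, rfl, rfl⟩
    rw [repMap_comp, repMap_comp, Category.assoc, Category.assoc, QuotSh.quot_condition]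

variable (s t σ)

/-- A section of the quotient sheaf lifts on a small fpqc covering family. -/
theorem exists_lifts : ∃ (ι : Type u) (Ti : ι → Over S) (g : ∀ i, Ti i ⟶ T) (u : ∀ i, Ti i ⟶ U),
    Presieve.ofArrows (fun i => (Ti i).left) (fun i => (g i).left) ∈ Scheme.fpqcPrecoverage T.left ∧
      ∀ i, IsPt s t σ (u i) (g i) := by
  haveI : Epi (QuotSh.quotπ K s t) := by unfold QuotSh.quotπ; infer_instance
  haveI : Sheaf.IsLocallySurjective (QuotSh.quotπ K s t) := (Sheaf.isLocallySurjective_iff_epi _).2 inferInstance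
  haveI hls : Presheaf.IsLocallySurjective (QuotSh.J K S) (QuotSh.quotπ K s t).hom :=
    inferInstanceAs (Sheaf.IsLocallySurjective (QuotSh.quotπ K s t))
  have h1 := Presheaf.imageSieve_mem (QuotSh.J K S) (QuotSh.quotπ K s t).hom (secEquiv _ T σ)
  -- the sieve of morphisms along which `σ` lifts to `U`
  let W : Sieve T :=
    { arrows := fun V g => ∃ u : V ⟶ U, IsPt s t σ u g
      downward_closed := by
        rintro V V' g ⟨u, hu⟩ c
        exact ⟨c ≫ u, hu.comp c⟩ }
  have hW : W ∈ QuotSh.J K S T := by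
    refine GrothendieckTopology.superset_covering _ (fun V g hg => ?_) h1
    obtain ⟨x, hx⟩ := hg
    let φ := (secEquiv (QuotSh.rep K U) V).symm x
    obtain ⟨u, hu⟩ : ∃ u : V ⟶ U, QuotSh.repMap K u = φ := by
      let Φ := (QuotSh.J K S).uliftYoneda.{u + 1}
      refine ⟨Φ.preimage ((QuotSh.repIsoUliftYoneda K V).inv ≫ φ ≫ (QuotSh.repIsoUliftYoneda K U).hom), ?_⟩
      rw [← cancel_mono (QuotSh.repIsoUliftYoneda K U).hom, ← AlgStLib.QuotShEff.repMap_iso,
        Functor.map_preimage, Iso.hom_inv_id_assoc]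
    refine ⟨u, (secEquiv _ V).injective ?_⟩
    rw [secEquiv_naturality, secEquiv_comp, hu, Equiv.apply_symm_apply]
    exact hx
  rw [GrothendieckTopology.mem_over_iff] at hW
  obtain ⟨ι, X, g, hg, hgW⟩ := exists_small_cover _ hW
  choose u hu using fun i => (Sieve.overEquiv_iff W (g i)).1 (hgW i)
  exact ⟨ι, fun i => Over.mk (g i ≫ T.hom), fun i => Over.homMk (g i) rfl, u, hg, hu⟩

variable {s t σ}

/-- On a piece where `σ` lifts, the graph is the pullback of the relation. -/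
theorem isPt_iff_of_lift [IsEquivalenceRelation s t] {Q Ti : Over S} {g : Ti ⟶ T} {ui : Ti ⟶ U}
    (hu : IsPt s t σ ui g) (a : Q ⟶ U) (q : Q ⟶ Ti) {Q' : Over S} (z : Q' ⟶ Q) :
    IsPt s t σ (z ≫ a) (z ≫ q ≫ g) ↔
      ∃ w, w ≫ pullback.snd (lift t s) (lift a (q ≫ ui)) = z := by
  have h := hu.comp (z ≫ q)
  unfold IsPt at h ⊢
  rw [Category.assoc, Category.assoc] at h
  rw [← h, quotπ_eq_iff]
  constructor
  · rintro ⟨r, h1, h2⟩
    exact ⟨pullback.lift r z (CartesianMonoidalCategory.hom_ext _ _ (by simp [h1]) (by simp [h2])),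
      pullback.lift_snd _ _ _⟩
  · rintro ⟨w, rfl⟩
    refine ⟨w ≫ pullback.fst _ _, ?_, ?_⟩
    · have := congrArg (fun x => w ≫ x ≫ fst U U) (pullback.condition (f := lift t s) (g := lift a (q ≫ ui)))
      simpa using this
    · have := congrArg (fun x => w ≫ x ≫ snd U U) (pullback.condition (f := lift t s) (g := lift a (q ≫ ui)))
      simpa using this

/-- A representing monomorphism restricts to any piece where `σ` lifts as a base change of `s`. -/
theorem isPullback_piece [IsEquivalenceRelation s t] {Z Ti : Over S} {i : Z ⟶ U ⊗ T} [Mono i]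
    (hi : Reps s t σ i) {g : Ti ⟶ T} {ui : Ti ⟶ U} (hu : IsPt s t σ ui g) :
    ∃ (W : Over S) (r : W ⟶ R) (w : W ⟶ Z) (p : W ⟶ Ti),
      IsPullback r p s ui ∧ IsPullback w p (i ≫ snd U T) g := by
  let p := pullback.snd s ui
  let r := pullback.fst s ui
  have hpt : IsPt s t σ (lift (r ≫ t) (p ≫ g) ≫ fst U T) (lift (r ≫ t) (p ≫ g) ≫ snd U T) := by
    rw [lift_fst, lift_snd]
    have h := hu.comp p
    unfold IsPt at h ⊢
    rw [← h, quotπ_eq_iff]
    exact ⟨r, rfl, pullback.condition⟩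
  obtain ⟨w, hw⟩ := (hi _ _).1 hpt
  have key : ∀ c : PullbackCone (i ≫ snd U T) g, ∃ x : c.pt ⟶ R, x ≫ t = c.fst ≫ i ≫ fst U T ∧ x ≫ s = c.snd ≫ ui := by
    intro c
    rw [← quotπ_eq_iff]
    have h1 := (hi _ (c.fst ≫ i)).2 ⟨c.fst, rfl⟩
    have h2 := hu.comp c.snd
    unfold IsPt at h1 h2
    rw [Category.assoc, Category.assoc] at h1
    rw [h2, ← c.condition, h1]
  choose x hx1 hx2 using key
  refine ⟨_, r, w, p, IsPullback.of_hasPullback _ _, ⟨⟨by rw [reassoc_of% hw, lift_snd]⟩,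
    ⟨PullbackCone.IsLimit.mk _ (fun c => pullback.lift (x c) c.snd (hx2 c)) ?_
      (fun c => pullback.lift_snd _ _ _) ?_⟩⟩⟩
  · intro c
    rw [← cancel_mono i, Category.assoc, hw]
    refine CartesianMonoidalCategory.hom_ext _ _ ?_ ?_
    · simp [r, hx1]
    · simp [p, c.condition]
  · intro c m h1 h2
    refine pullback.hom_ext ?_ (by rw [pullback.lift_snd]; exact h2)
    have h := AlgStLib.QuotShEff.isEqvRel_of_isEquivalenceRelation (s := s) (t := t)
    rw [pullback.lift_fst]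
    refine h.1 _ _ _ ?_ ?_
    · rw [hx1, ← h1, Category.assoc, Category.assoc, reassoc_of% hw, lift_fst]
    · rw [hx2, Category.assoc, pullback.condition, reassoc_of% h2]

/-- The projection of the graph to the base is flat, surjective and quasi-compact. -/
theorem property_of_reps [IsEquivalenceRelation s t] (P : MorphismProperty Scheme.{u})
    [P.IsStableUnderBaseChange] [IsZariskiLocalAtTarget P]
    [P.DescendsAlong (@Surjective ⊓ @Flat ⊓ @QuasiCompact)] (hs : P s.left) {Z : Over S} {i : Z ⟶ U ⊗ T}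
    [Mono i] (hi : Reps s t σ i) : P (i ≫ snd U T).left := by
  obtain ⟨ι, Ti, g, ui, hg, hu⟩ := exists_lifts s t σ
  refine property_of_fpqc_family P hg _ fun k => ?_
  obtain ⟨W, r, w, p, sq1, sq2⟩ := isPullback_piece hi (hu k)
  have := P.of_isPullback (isPullback_left sq1) hs
  exact (P.cancel_left_of_respectsIso (isPullback_left sq2).isoPullback.hom _).1
    (by rwa [IsPullback.isoPullback_hom_snd])

/-- Stability under the relation of a subobject representing the graph. -/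
theorem stable_of_reps {Z : Over S} {i : Z ⟶ U ⊗ T} (hi : Reps s t σ i)
    (T' : Over S) (r : T' ⟶ R ⊗ T) :
    (∃ z : T' ⟶ Z, z ≫ i = r ≫ (s ▷ T)) ↔ (∃ z : T' ⟶ Z, z ≫ i = r ≫ (t ▷ T)) := by
  rw [← hi, ← hi]
  unfold IsPt
  simp only [Category.assoc, whiskerRight_fst, whiskerRight_snd]
  rw [← Category.assoc r, ← Category.assoc r, repMap_comp K (r ≫ fst R T) s, repMap_comp K (r ≫ fst R T) t,
    Category.assoc, Category.assoc, QuotSh.quot_condition]

theorem related_of_reps [IsEquivalenceRelation s t] {Z : Over S} {i : Z ⟶ U ⊗ T} (hi : Reps s t σ i)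
    (T' : Over S) (z₁ z₂ : T' ⟶ Z) (h : z₁ ≫ i ≫ snd U T = z₂ ≫ i ≫ snd U T) :
    ∃ r : T' ⟶ R, r ≫ s = z₁ ≫ i ≫ fst U T ∧ r ≫ t = z₂ ≫ i ≫ fst U T := by
  have h1 := (hi _ (z₁ ≫ i)).2 ⟨z₁, rfl⟩
  have h2 := (hi _ (z₂ ≫ i)).2 ⟨z₂, rfl⟩
  unfold IsPt at h1 h2
  rw [Category.assoc, Category.assoc] at h1 h2
  obtain ⟨r, hr1, hr2⟩ := (quotπ_eq_iff (s := s) (t := t) (z₂ ≫ i ≫ fst U T) (z₁ ≫ i ≫ fst U T)).1
    (by rw [h2, h1, h])
  exact ⟨r, hr2, hr1⟩

theorem section_of_reps {Z : Over S} {i : Z ⟶ U ⊗ T} (hi : Reps s t σ i) :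
    QuotSh.repMap K (i ≫ fst U T) ≫ QuotSh.quotπ K s t = QuotSh.repMap K (i ≫ snd U T) ≫ σ :=
  (hi _ i).2 ⟨𝟙 _, Category.id_comp _⟩

/-- A stable subscheme, faithfully flat and quasi-compact over the base, which induces `σ`
represents the graph of `σ`. -/
theorem reps_of_stable [IsEquivalenceRelation s t] {Z : Over S} (i : Z ⟶ U ⊗ T) [Mono i.left]
    (hst : ∀ (T' : Over S) (r : T' ⟶ R ⊗ T),
        (∃ z : T' ⟶ Z, z ≫ i = r ≫ (s ▷ T)) ↔ (∃ z : T' ⟶ Z, z ≫ i = r ≫ (t ▷ T)))
    [Flat (i ≫ snd U T).left] [Surjective (i ≫ snd U T).left] [QuasiCompact (i ≫ snd U T).left]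
    (hσ : QuotSh.repMap K (i ≫ fst U T) ≫ QuotSh.quotπ K s t = QuotSh.repMap K (i ≫ snd U T) ≫ σ) :
    Reps s t σ i := by
  intro T' z
  constructor
  · intro hz
    let c := pullback.fst (z ≫ snd U T) (i ≫ snd U T)
    let z₁ := pullback.snd (z ≫ snd U T) (i ≫ snd U T)
    have hc : c ≫ z ≫ snd U T = z₁ ≫ i ≫ snd U T := pullback.condition
    have sq := isPullback_left (IsPullback.of_hasPullback (z ≫ snd U T) (i ≫ snd U T))
    haveI : Flat c.left := MorphismProperty.of_isPullback (P := @Flat) sq.flip inferInstance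
    haveI : Surjective c.left := MorphismProperty.of_isPullback (P := @Surjective) sq.flip inferInstance
    haveI : QuasiCompact c.left := MorphismProperty.of_isPullback (P := @QuasiCompact) sq.flip inferInstance
    obtain ⟨r, hr1, hr2⟩ : ∃ r : pullback (z ≫ snd U T) (i ≫ snd U T) ⟶ R,
        r ≫ t = c ≫ z ≫ fst U T ∧ r ≫ s = z₁ ≫ i ≫ fst U T := by
      rw [← quotπ_eq_iff]
      have h1 := hz.comp c
      unfold IsPt at h1
      rw [h1, hc, repMap_comp, repMap_comp K z₁ (i ≫ fst U T), Category.assoc, Category.assoc, hσ]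
    obtain ⟨w, hw⟩ := (hst _ (lift r (c ≫ z ≫ snd U T))).1 ⟨z₁, CartesianMonoidalCategory.hom_ext _ _
      (by simp [hr2]) (by simp [hc])⟩
    have hw' : w ≫ i = c ≫ z := by
      rw [hw]
      exact CartesianMonoidalCategory.hom_ext _ _ (by simp [hr1]) (by simp)
    have hwl : w.left ≫ i.left = c.left ≫ z.left := congrArg CommaMorphism.left hw'
    have hl : EffectiveEpi c.left := inferInstance
    let d : T'.left ⟶ Z.left := EffectiveEpi.desc c.left w.left fun {V} g₁ g₂ e => by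
      rw [← cancel_mono i.left, Category.assoc, Category.assoc, hwl, reassoc_of% e]
    have hd : d ≫ i.left = z.left := by
      rw [← cancel_epi c.left, EffectiveEpi.fac_assoc, hwl]
    exact ⟨Over.homMk d (by rw [← Over.w i, ← Category.assoc, hd, Over.w]), Over.OverMorphism.ext hd⟩
  · rintro ⟨w, rfl⟩
    have : IsPt s t σ (i ≫ fst U T) (i ≫ snd U T) := hσ
    simpa using this.comp w

theorem iso_of_reps {Z Z' : Over S} {i : Z ⟶ U ⊗ T} {i' : Z' ⟶ U ⊗ T} [Mono i] [Mono i']
    (hi : Reps s t σ i) (hi' : Reps s t σ i') : ∃ e : Z ≅ Z', e.hom ≫ i' = i := by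
  obtain ⟨a, ha⟩ := (hi' Z i).1 ((hi Z i).2 ⟨𝟙 _, Category.id_comp _⟩)
  obtain ⟨b, hb⟩ := (hi Z' i').1 ((hi' Z' i').2 ⟨𝟙 _, Category.id_comp _⟩)
  exact ⟨⟨a, b, by rw [← cancel_mono i]; simp [hb, ha], by rw [← cancel_mono i']; simp [hb, ha]⟩, ha⟩

end Groth.Agent.GrpQGraph
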